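import Groth.Agent.Props.AffineCrit
import Groth.Agent.CohAff.ResOps
import Groth.Agent.QCoh.Qcqs

/-!
# Serre's criterion from exactness of global sections on submodules of free modules
-/

set_option autoImplicit false

universe u

open CategoryTheory Limits AlgebraicGeometry Opposite TopologicalSpace

noncomputable section

namespace Groth.Agent.SerreCrit

open Groth.Agent.QCoh Groth.Agent.Props.AffineCrit

variable {X : Scheme.{u}}

/-- coordinates of `O^(r+1)` -/
def co : ∀ r : ℕ, Fin (r + 1) → (pr X r ⟶ Coh.structureModule X)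
  | 0 => fun _ => 𝟙 (Coh.structureModule X)
  | r + 1 => Fin.lastCases (motive := fun _ => pr X (r + 1) ⟶ Coh.structureModule X)
      (biprod.snd : pr X (r + 1) ⟶ Coh.structureModule X)
      (fun j => (biprod.fst : pr X (r + 1) ⟶ pr X r) ≫ co r j)

theorem co_castSucc (r : ℕ) (j : Fin (r + 1)) :
    co (X := X) (r + 1) j.castSucc = (biprod.fst : pr X (r + 1) ⟶ pr X r) ≫ co r j := by
  rw [co.eq_2]
  exact Fin.lastCases_castSucc (motive := fun _ => pr X (r + 1) ⟶ Coh.structureModule X) _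

theorem co_last (r : ℕ) :
    co (X := X) (r + 1) (Fin.last (r + 1)) = (biprod.snd : pr X (r + 1) ⟶ Coh.structureModule X) := by
  rw [co.eq_2]
  exact Fin.lastCases_last (motive := fun _ => pr X (r + 1) ⟶ Coh.structureModule X)

theorem co_jointly_mono : ∀ (r : ℕ) {Z : X.Modules} (a : Z ⟶ pr X r),
    (∀ i, a ≫ co r i = 0) → a = 0
  | 0, _, a, h => (Category.comp_id a).symm.trans (h 0)
  | r + 1, Z, a, h => by
    have h1 : a ≫ biprod.fst = 0 := co_jointly_mono r (a ≫ (biprod.fst : pr X (r + 1) ⟶ pr X r)) fun j => by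
      have := h j.castSucc
      rw [co_castSucc] at this
      exact (Category.assoc _ _ _).trans this
    have h2 : a ≫ biprod.snd = 0 := by
      have := h (Fin.last (r + 1))
      rw [co_last] at this
      exact this
    exact biprod.hom_ext _ _ (h1.trans zero_comp.symm) (h2.trans zero_comp.symm)

/-- exactness of global sections on sequences starting with submodules of free modules -/
def SectExact (X : Scheme.{u}) : Prop :=
  ∀ (S : ShortComplex X.Modules) (n : ℕ) (j : S.X₁ ⟶ ∏ᶜ (fun _ : Fin n => Coh.structureModule X)),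
    S.ShortExact → Mono j → Coh.IsQCoh S.X₁ → Coh.IsQCoh S.X₂ → Coh.IsQCoh S.X₃ →
      Function.Surjective (S.g.val.app (op ⊤)).hom

theorem app_top_surjective_of_pr (h : SectExact X) (S : ShortComplex X.Modules) (hS : S.ShortExact)
    (h₁ : Coh.IsQCoh S.X₁) (h₂ : Coh.IsQCoh S.X₂) (h₃ : Coh.IsQCoh S.X₃) (r : ℕ)
    (a : S.X₁ ⟶ pr X r) (hm : Mono a) : Function.Surjective (S.g.app ⊤) := by
  refine h S (r + 1) (Pi.lift fun i => a ≫ co r i) hS ?_ h₁ h₂ h₃
  refine Preadditive.mono_of_cancel_zero _ fun {Z} k hk => ?_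
  have : k ≫ a = 0 := co_jointly_mono r _ fun i => by
    have := congrArg (· ≫ Pi.π (fun _ : Fin (r + 1) => Coh.structureModule X) i) hk
    simpa using this
  exact zero_of_comp_mono a this

/-- functions on closed subschemes lift -/
theorem subschemeι_app_top_surjective (h : SectExact X) (I : X.IdealSheafData) :
    Function.Surjective (I.subschemeι.app ⊤) := by
  have : (Coh.structureModule X).IsQuasicoherent := ProjTwist.isQuasicoherent_structureModule X
  have : (Coh.structureModule I.subscheme).IsQuasicoherent :=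
    ProjTwist.isQuasicoherent_structureModule I.subscheme
  have : Epi (ClSub.toSubscheme I) := CohAff.epi_of_affine_surjective _ fun V hV =>
    I.subschemeι.app_surjective V hV
  let S := ShortComplex.mk (ClSub.idealModι I) (ClSub.toSubscheme I) (kernel.condition _)
  have hS : S.ShortExact :=
    ShortComplex.ShortExact.mk (mono_f := inferInstanceAs (Mono (kernel.ι _))) (epi_g := ‹_›)
      (ShortComplex.exact_of_f_is_kernel _ (kernelIsKernel _))
  have : Mono (ClSub.idealModι I) := hS.mono_f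
  have := app_top_surjective_of_pr h S hS (AmpleLib.isQCoh_idealMod I) ‹_›
    (QCoh.isQuasicoherent_pushforward I.subschemeι (Coh.structureModule I.subscheme)) 0 (ClSub.idealModι I) hS.mono_f
  exact this

/-- a closed point has an affine basic open neighbourhood -/
theorem exists_basicOpen (h : SectExact X) {x : X} (hxc : IsClosed ({x} : Set X)) :
    ∃ t : Γ(X, ⊤), IsAffineOpen (X.basicOpen t) ∧ x ∈ X.basicOpen t := by
  obtain ⟨U, hU, hx, -⟩ := exists_isAffineOpen_mem_and_subset (U := (⊤ : X.Opens)) (x := x) trivial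
  let V : X.Opens := ⟨{x}ᶜ, hxc.isOpen_compl⟩
  let I := Scheme.IdealSheafData.vanishingIdeal (X := X)
    ⟨(U : Set X)ᶜ ∪ {x}, U.2.isClosed_compl.union hxc⟩
  have hsupp : ∀ z : I.subscheme, I.subschemeι z ∈ U → I.subschemeι z = x := fun z hz => by
    have := I.range_subschemeι.le ⟨z, rfl⟩
    rw [Scheme.IdealSheafData.coe_support_vanishingIdeal] at this
    exact this.resolve_left (not_not_intro hz)
  let Z := I.subscheme
  let A : Z.Opens := I.subschemeι ⁻¹ᵁ U
  let B : Z.Opens := I.subschemeι ⁻¹ᵁ V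
  have hAB : A ⊓ B = ⊥ := eq_bot_iff.2 fun z hz => hz.2 (hsupp z hz.1)
  have hcov : (⊤ : Z.Opens) ≤ ⨆ i : ULift.{u} Bool, cond i.down A B := fun z _ => by
    by_cases hz : I.subschemeι z = x
    · exact Opens.mem_iSup.2 ⟨⟨true⟩, (hz.symm ▸ hx : I.subschemeι z ∈ U)⟩
    · exact Opens.mem_iSup.2 ⟨⟨false⟩, hz⟩
  let sf : ∀ i : ULift.{u} Bool, Γ(Z, cond i.down A B) := fun i =>
    match i with
    | ⟨true⟩ => 1
    | ⟨false⟩ => 0
  obtain ⟨e, he, -⟩ := Z.sheaf.existsUnique_gluing' (fun i : ULift.{u} Bool => cond i.down A B) ⊤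
    (fun i => homOfLE le_top) hcov sf (by
      rintro ⟨i⟩ ⟨j⟩
      cases i <;> cases j
      · rfl
      · have : Subsingleton Γ(Z, B ⊓ A) := CommRingCat.subsingleton_of_isTerminal
          ((inf_comm B A).trans hAB ▸ Z.sheaf.isTerminalOfEmpty)
        exact @Subsingleton.elim Γ(Z, B ⊓ A) _ _ _
      · have : Subsingleton Γ(Z, A ⊓ B) := CommRingCat.subsingleton_of_isTerminal
          (hAB ▸ Z.sheaf.isTerminalOfEmpty)
        exact @Subsingleton.elim Γ(Z, A ⊓ B) _ _ _
      · rfl)
  change Γ(Z, ⊤) at e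
  obtain ⟨t, ht⟩ := subschemeι_app_top_surjective h I e
  have hpre : I.subschemeι ⁻¹ᵁ X.basicOpen t = Z.basicOpen e := by
    rw [Scheme.preimage_basicOpen, ht]
    rfl
  have hle : X.basicOpen t ≤ U := fun y hy => by
    by_contra hyU
    obtain ⟨z, rfl⟩ := I.range_subschemeι.ge (by
      rw [Scheme.IdealSheafData.coe_support_vanishingIdeal]
      exact Or.inl hyU)
    have hz : z ∈ B := fun (hzx : I.subschemeι z = x) => hyU (hzx.symm ▸ hx)
    have h1 : z ∈ Z.basicOpen e := hpre.le hy
    have h2 : z ∈ Z.basicOpen (rres (le_top : B ≤ ⊤) e) := by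
      rw [Scheme.basicOpen_res]
      exact ⟨hz, h1⟩
    rw [show rres (le_top : B ≤ ⊤) e = 0 from he ⟨false⟩, Scheme.basicOpen_zero] at h2
    exact h2
  refine ⟨t, ?_, ?_⟩
  · have := hU.basicOpen (rres (le_top : U ≤ ⊤) t)
    rwa [Scheme.basicOpen_res, inf_eq_right.mpr hle] at this
  · obtain ⟨z, hz⟩ := I.range_subschemeι.ge (by
      rw [Scheme.IdealSheafData.coe_support_vanishingIdeal]
      exact Or.inr rfl : x ∈ (I.support : Set X))
    have hzA : z ∈ A := (hz.symm ▸ hx : I.subschemeι z ∈ U)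
    have h2 : z ∈ Z.basicOpen (rres (le_top : A ≤ ⊤) e) := by
      rw [show rres (le_top : A ≤ ⊤) e = 1 from he ⟨true⟩, Scheme.basicOpen_of_isUnit _ isUnit_one]
      exact hzA
    rw [Scheme.basicOpen_res] at h2
    have h3 : z ∈ I.subschemeι ⁻¹ᵁ X.basicOpen t := hpre.ge h2.2
    exact hz ▸ h3

/-- the affineness criterion -/
theorem isAffine [CompactSpace X] (h : SectExact X) : IsAffine X := by
  classical
  let P := {t : Γ(X, ⊤) // IsAffineOpen (X.basicOpen t)}
  have hcov : (⨆ t : P, X.basicOpen t.1) = ⊤ := eq_top_of_closed_points fun x hxc =>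
    let ⟨t, ht, hxt⟩ := exists_basicOpen h hxc
    Opens.mem_iSup.mpr ⟨⟨t, ht⟩, hxt⟩
  obtain ⟨F, hF⟩ := isCompact_univ.elim_finite_subcover (fun t : P => (X.basicOpen t.1 : Set X))
    (fun t => (X.basicOpen t.1).2) fun x _ => by
      obtain ⟨t, ht⟩ := Opens.mem_iSup.mp (hcov.ge (trivial : x ∈ (⊤ : X.Opens)))
      exact Set.mem_iUnion.mpr ⟨t, ht⟩
  let f : ℕ → Γ(X, ⊤) := fun j => if hj : j < F.card then (F.equivFin.symm ⟨j, hj⟩).1.1 else 0
  have hcov' : ∀ x : X, ∃ j ≤ F.card, x ∈ X.basicOpen (f j) := fun x => by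
    obtain ⟨t, ht, hxt⟩ := Set.mem_iUnion₂.mp (hF (Set.mem_univ x))
    refine ⟨F.equivFin ⟨t, ht⟩, (F.equivFin ⟨t, ht⟩).2.le, ?_⟩
    simp only [f, (F.equivFin ⟨t, ht⟩).2, dif_pos, Fin.eta, Equiv.symm_apply_apply]
    exact hxt
  refine isAffine_of_isAffineOpen_basicOpen (f '' {j | j ≤ F.card}) ?_ ?_
  · have := epi_phi f hcov'
    have := ProjTwist.isQuasicoherent_structureModule X
    let S := ShortComplex.mk (kernel.ι (phi f F.card)) (phi f F.card) (kernel.condition _)
    have hS : S.ShortExact :=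
      ShortComplex.ShortExact.mk (mono_f := inferInstanceAs (Mono (kernel.ι _))) (epi_g := ‹_›)
        (ShortComplex.exact_of_f_is_kernel _ (kernelIsKernel _))
    have := hS.mono_f
    obtain ⟨y, hy⟩ := app_top_surjective_of_pr h S hS
      (inferInstanceAs (kernel (phi f F.card)).IsQuasicoherent) (isQuasicoherent_pr _) ‹_› F.card S.f hS.mono_f
      (1 : Γ(X, ⊤))
    rw [Ideal.eq_top_iff_one]
    exact hy ▸ mem_span f F.card y
  · rintro _ ⟨j, -, rfl⟩
    simp only [f]
    split_ifs with hj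
    · exact (F.equivFin.symm ⟨j, hj⟩).1.2
    · rw [Scheme.basicOpen_zero]; exact isAffineOpen_bot X

end Groth.Agent.SerreCrit

end
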