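import Groth.Agent.SerreCrit.Closed
import Groth.Agent.CohAff.ResOps
import Groth.Agent.QCoh.Qcqs

/-!
# The quotient `O → ι_* O_C` of a closed subset
-/

set_option autoImplicit false

universe u

open CategoryTheory Limits AlgebraicGeometry Opposite TopologicalSpace

noncomputable section

namespace Groth.Agent.SerreCrit

variable {X : Scheme.{u}} (C : Closeds X)

/-- The reduced ideal of a closed subset. -/
abbrev closedIdeal : X.IdealSheafData := Scheme.IdealSheafData.vanishingIdeal C

theorem range_closedIdeal_subschemeι : Set.range (closedIdeal C).subschemeι = (C : Set X) := by
  rw [Scheme.IdealSheafData.range_subschemeι, Scheme.IdealSheafData.coe_support_vanishingIdeal]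

instance isQuasicoherent_closedQuot :
    ((Scheme.Modules.pushforward (closedIdeal C).subschemeι).obj
      (Coh.structureModule (closedIdeal C).subscheme)).IsQuasicoherent := by
  have : (Coh.structureModule (closedIdeal C).subscheme).IsQuasicoherent :=
    ProjTwist.isQuasicoherent_structureModule _
  exact QCoh.isQuasicoherent_pushforward _ _

theorem epi_toSubscheme : Epi (ClSub.toSubscheme (closedIdeal C)) := by
  have : (Coh.structureModule X).IsQuasicoherent := ProjTwist.isQuasicoherent_structureModule X
  have : (Coh.structureModule (closedIdeal C).subscheme).IsQuasicoherent :=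
    ProjTwist.isQuasicoherent_structureModule _
  exact CohAff.epi_of_affine_surjective _ fun V hV => (closedIdeal C).subschemeι.app_surjective V hV

theorem surjective_of_toSubscheme {W : X.Opens}
    (h : Function.Surjective ((ClSub.toSubscheme (closedIdeal C)).app W)) :
    Function.Surjective ((closedIdeal C).subschemeι.app W) := h

end Groth.Agent.SerreCrit
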