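import Groth.Agent.Props.AffineCrit
import Mathlib.AlgebraicGeometry.Morphisms.QuasiSeparated
import Mathlib.AlgebraicGeometry.Morphisms.ClosedImmersion

/-!
# Affineness from lifting of functions on closed subsets
-/

set_option autoImplicit false

universe u

open CategoryTheory Limits AlgebraicGeometry Opposite TopologicalSpace

noncomputable section

namespace Groth.Agent.SerreCrit

open Groth.Agent.QCoh Groth.Agent.Props.AffineCrit

variable {X : Scheme.{u}}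

/-- Every closed subset is the support of a closed subscheme to which global functions lift. -/
def ClosedLift (X : Scheme.{u}) : Prop :=
  ∀ C : Closeds X, ∃ (Z : Scheme.{u}) (i : Z ⟶ X) (_ : IsClosedImmersion i),
    Set.range i = (C : Set X) ∧ Function.Surjective (i.app ⊤)

theorem exists_basicOpen_of_closedLift (h : ClosedLift X) {x : X} (hxc : IsClosed ({x} : Set X)) :
    ∃ t : Γ(X, ⊤), IsAffineOpen (X.basicOpen t) ∧ x ∈ X.basicOpen t := by
  obtain ⟨U, hU, hx, -⟩ := exists_isAffineOpen_mem_and_subset (U := (⊤ : X.Opens)) (x := x) trivial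
  let V : X.Opens := ⟨{x}ᶜ, hxc.isOpen_compl⟩
  obtain ⟨Z, i, hi, hrange, hsurj⟩ := h ⟨(U : Set X)ᶜ ∪ {x}, U.2.isClosed_compl.union hxc⟩
  have hsupp : ∀ z : Z, i z ∈ U → i z = x := fun z hz => by
    have := hrange.le ⟨z, rfl⟩
    exact this.resolve_left (not_not_intro hz)
  let A : Z.Opens := i ⁻¹ᵁ U
  let B : Z.Opens := i ⁻¹ᵁ V
  have hAB : A ⊓ B = ⊥ := eq_bot_iff.2 fun z hz => hz.2 (hsupp z hz.1)
  have hcov : (⊤ : Z.Opens) ≤ ⨆ i : ULift.{u} Bool, cond i.down A B := fun z _ => by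
    by_cases hz : i z = x
    · exact Opens.mem_iSup.2 ⟨⟨true⟩, (hz.symm ▸ hx : i z ∈ U)⟩
    · exact Opens.mem_iSup.2 ⟨⟨false⟩, hz⟩
  let sf : ∀ i : ULift.{u} Bool, Γ(Z, cond i.down A B) := fun i =>
    match i with
    | ⟨true⟩ => 1
    | ⟨false⟩ => 0
  obtain ⟨e, he, -⟩ := Z.sheaf.existsUnique_gluing' (fun i : ULift.{u} Bool => cond i.down A B) ⊤
    (fun i => homOfLE le_top) hcov sf (by
      rintro ⟨i⟩ ⟨j⟩
      cases i <;> cases j
      · rfl
      · have : Subsingleton Γ(Z, B ⊓ A) := CommRingCat.subsingleton_of_isTerminal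
          ((inf_comm B A).trans hAB ▸ Z.sheaf.isTerminalOfEmpty)
        exact @Subsingleton.elim Γ(Z, B ⊓ A) _ _ _
      · have : Subsingleton Γ(Z, A ⊓ B) := CommRingCat.subsingleton_of_isTerminal
          (hAB ▸ Z.sheaf.isTerminalOfEmpty)
        exact @Subsingleton.elim Γ(Z, A ⊓ B) _ _ _
      · rfl)
  change Γ(Z, ⊤) at e
  obtain ⟨t, ht⟩ := hsurj e
  have hpre : i ⁻¹ᵁ X.basicOpen t = Z.basicOpen e := by
    rw [Scheme.preimage_basicOpen, ht]
    rfl
  have hle : X.basicOpen t ≤ U := fun y hy => by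
    by_contra hyU
    obtain ⟨z, rfl⟩ := hrange.ge (Or.inl hyU)
    have hz : z ∈ B := fun (hzx : i z = x) => hyU (hzx.symm ▸ hx)
    have h1 : z ∈ Z.basicOpen e := hpre.le hy
    have h2 : z ∈ Z.basicOpen (rres (le_top : B ≤ ⊤) e) := by
      rw [Scheme.basicOpen_res]
      exact ⟨hz, h1⟩
    rw [show rres (le_top : B ≤ ⊤) e = 0 from he ⟨false⟩, Scheme.basicOpen_zero] at h2
    exact h2
  refine ⟨t, ?_, ?_⟩
  · have := hU.basicOpen (rres (le_top : U ≤ ⊤) t)
    rwa [Scheme.basicOpen_res, inf_eq_right.mpr hle] at this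
  · obtain ⟨z, hz⟩ := hrange.ge (Or.inr rfl : x ∈ _)
    have hzA : z ∈ A := (hz.symm ▸ hx : i z ∈ U)
    have h2 : z ∈ Z.basicOpen (rres (le_top : A ≤ ⊤) e) := by
      rw [show rres (le_top : A ≤ ⊤) e = 1 from he ⟨true⟩, Scheme.basicOpen_of_isUnit _ isUnit_one]
      exact hzA
    rw [Scheme.basicOpen_res] at h2
    have h3 : z ∈ i ⁻¹ᵁ X.basicOpen t := hpre.ge h2.2
    exact hz ▸ h3

/-- Functions without common zero on a closed subset generate the unit ideal there. -/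
theorem exists_mem_span [CompactSpace X] [QuasiSeparatedSpace X] (h : ClosedLift X)
    (s : Finset Γ(X, ⊤)) :
    ∀ C : Closeds X, (∀ x ∈ (C : Set X), ∃ t ∈ s, x ∈ X.basicOpen t) →
      ∃ u ∈ Ideal.span (s : Set Γ(X, ⊤)), ∀ x ∈ (C : Set X), x ∉ X.basicOpen (1 - u) := by
  classical
  induction s using Finset.induction_on with
  | empty =>
    intro C hC
    exact ⟨0, Ideal.zero_mem _, fun x hx => by obtain ⟨t, ht, -⟩ := hC x hx; simp at ht⟩
  | @insert a s ha ih =>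
    intro C hC
    obtain ⟨u₁, hu₁, hC₁⟩ := ih ⟨(C : Set X) \ X.basicOpen a, C.2.inter (X.basicOpen a).2.isClosed_compl⟩
      (fun x hx => by
        obtain ⟨t, ht, hxt⟩ := hC x hx.1
        rcases Finset.mem_insert.1 ht with rfl | ht
        · exact absurd hxt hx.2
        · exact ⟨t, ht, hxt⟩)
    obtain ⟨Z, i, hi, hrange, hsurj⟩ := h C
    have : QuasiSeparatedSpace Z := quasiSeparatedSpace_of_quasiSeparated i
    have : CompactSpace Z := QuasiCompact.compactSpace_of_compactSpace i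
    let ρ : Γ(X, ⊤) →+* Γ(Z, ⊤) := (i.app ⊤).hom
    have hpre : ∀ r, i ⁻¹ᵁ X.basicOpen r = Z.basicOpen (ρ r) := fun r => Scheme.preimage_basicOpen i r
    set eZ : Γ(Z, ⊤) := ρ (1 - u₁) with heZ
    letI : Algebra Γ(Z, ⊤) Γ(Z, Z.basicOpen eZ) := (Z.presheaf.map (homOfLE (Z.basicOpen_le eZ)).op).hom.toAlgebra
    have hloc : IsLocalization.Away eZ Γ(Z, Z.basicOpen eZ) :=
      isLocalization_basicOpen_of_qcqs (U := ⊤) isCompact_univ isQuasiSeparated_univ eZ
    have hle : Z.basicOpen eZ ≤ Z.basicOpen (ρ a) := by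
      intro z hz
      rw [heZ, ← hpre] at hz
      rw [← hpre]
      by_contra hne
      exact hC₁ (i z) ⟨hrange.le ⟨z, rfl⟩, hne⟩ hz
    have hu : IsUnit (algebraMap Γ(Z, ⊤) Γ(Z, Z.basicOpen eZ) (ρ a)) := by
      have h0 : IsUnit (rres (le_top : Z.basicOpen (ρ a) ≤ ⊤) (ρ a)) :=
        RingedSpace.isUnit_res_basicOpen Z.toRingedSpace (ρ a)
      have h1 := h0.map (rres hle).hom
      rwa [rres_rres] at h1
    obtain ⟨v, hv⟩ := isUnit_iff_exists_inv.1 hu
    obtain ⟨⟨b', m, hm⟩, hbm⟩ := IsLocalization.surj (Submonoid.powers eZ) v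
    dsimp only at hbm
    obtain ⟨k, hk⟩ : ∃ k : ℕ, eZ ^ k * (ρ a * b') = eZ ^ k * m := by
      have : algebraMap Γ(Z, ⊤) Γ(Z, Z.basicOpen eZ) (ρ a * b') = algebraMap _ _ m := by
        rw [map_mul, ← hbm, ← mul_assoc, hv, one_mul]
      obtain ⟨⟨_, k, rfl⟩, hk⟩ := (IsLocalization.eq_iff_exists (Submonoid.powers eZ) _).1 this
      exact ⟨k, hk⟩
    obtain ⟨n, rfl⟩ := hm
    obtain ⟨b, hb⟩ := hsurj (eZ ^ k * b')
    have hb' : ρ b = eZ ^ k * b' := hb
    refine ⟨1 - ((1 - u₁) ^ (k + n) - a * b), ?_, fun x hx => ?_⟩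
    · rw [← sub_add, Finset.coe_insert]
      refine Ideal.add_mem _ ?_ (Ideal.mul_mem_right _ _ (Ideal.subset_span (Set.mem_insert _ _)))
      have hd : (1 - (1 - u₁)) ∣ 1 ^ (k + n) - (1 - u₁) ^ (k + n) := sub_dvd_pow_sub_pow _ _ _
      rw [one_pow, sub_sub_cancel] at hd
      exact Ideal.mem_of_dvd _ hd (Ideal.span_mono (Set.subset_insert _ _) hu₁)
    · obtain ⟨z, rfl⟩ := hrange.ge hx
      intro hz
      have hz' : z ∈ i ⁻¹ᵁ X.basicOpen (1 - (1 - ((1 - u₁) ^ (k + n) - a * b))) := hz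
      rw [sub_sub_cancel, hpre, map_sub, map_mul, map_pow, ← heZ, hb',
        mul_left_comm, hk, ← pow_add, sub_self, Scheme.basicOpen_zero] at hz'
      exact hz'

/-- The affineness criterion. -/
theorem isAffine_of_closedLift [CompactSpace X] [QuasiSeparatedSpace X] (h : ClosedLift X) :
    IsAffine X := by
  classical
  let P := {t : Γ(X, ⊤) // IsAffineOpen (X.basicOpen t)}
  have hcov : (⨆ t : P, X.basicOpen t.1) = ⊤ := eq_top_of_closed_points fun x hxc =>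
    let ⟨t, ht, hxt⟩ := exists_basicOpen_of_closedLift h hxc
    Opens.mem_iSup.mpr ⟨⟨t, ht⟩, hxt⟩
  obtain ⟨F, hF⟩ := isCompact_univ.elim_finite_subcover (fun t : P => (X.basicOpen t.1 : Set X))
    (fun t => (X.basicOpen t.1).2) fun x _ => by
      obtain ⟨t, ht⟩ := Opens.mem_iSup.mp (hcov.ge (trivial : x ∈ (⊤ : X.Opens)))
      exact Set.mem_iUnion.mpr ⟨t, ht⟩
  obtain ⟨u, hu, hu'⟩ := exists_mem_span h (F.image Subtype.val) ⊤ fun x _ => by
    obtain ⟨t, ht, hxt⟩ := Set.mem_iUnion₂.mp (hF (Set.mem_univ x))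
    exact ⟨t.1, Finset.mem_image_of_mem _ ht, hxt⟩
  have hnil : IsNilpotent (1 - u) := by
    refine (Scheme.isNilpotent_iff_basicOpen_eq_bot (1 - u)).2 ?_
    exact eq_bot_iff.2 fun x hx => hu' x trivial hx
  refine isAffine_of_isAffineOpen_basicOpen _ (Ideal.eq_top_of_isUnit_mem _ hu ?_) ?_
  · have := hnil.isUnit_one_sub
    rwa [sub_sub_cancel] at this
  · intro t ht
    obtain ⟨⟨t, ht'⟩, -, rfl⟩ := Finset.mem_image.1 ht
    exact ht'

/-- The relative criterion. -/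
theorem isAffineHom_of_closedLift {Y : Scheme.{u}} (f : X ⟶ Y) [IsSeparated f] [QuasiCompact f]
    (h : ∀ (C : Closeds X) (U : Y.Opens), IsAffineOpen U →
      ∃ (Z : Scheme.{u}) (i : Z ⟶ X) (_ : IsClosedImmersion i),
        Set.range i = (C : Set X) ∧ Function.Surjective (i.app (f ⁻¹ᵁ U))) :
    IsAffineHom f := by
  refine ⟨fun U hU => ?_⟩
  have : IsAffine U := hU
  have : CompactSpace ((f ⁻¹ᵁ U : X.Opens) : Scheme.{u}) := isCompact_iff_compactSpace.1 (f.isCompact_preimage hU.isCompact)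
  have : QuasiSeparatedSpace ((f ⁻¹ᵁ U : X.Opens) : Scheme.{u}) := quasiSeparatedSpace_of_quasiSeparated (f ∣_ U)
  refine isAffine_of_closedLift fun C' => ?_
  obtain ⟨Z, i, hi, hrange, hsurj⟩ :=
    h ⟨closure ((f ⁻¹ᵁ U).ι '' (C' : Set ↥((f ⁻¹ᵁ U : X.Opens) : Scheme.{u}))), isClosed_closure⟩ U hU
  refine ⟨_, i ∣_ (f ⁻¹ᵁ U), inferInstance, ?_, ?_⟩
  · have hC : (C' : Set ↥((f ⁻¹ᵁ U : X.Opens) : Scheme.{u})) = (f ⁻¹ᵁ U).ι ⁻¹' closure ((f ⁻¹ᵁ U).ι '' (C' : Set ↥((f ⁻¹ᵁ U : X.Opens) : Scheme.{u}))) := by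
      have hemb : Topology.IsInducing (f ⁻¹ᵁ U).ι := (f ⁻¹ᵁ U).ι.isOpenEmbedding.isInducing
      rw [← hemb.closure_eq_preimage_closure_image, C'.isClosed.closure_eq]
    rw [hC, morphismRestrict_base]
    ext x
    constructor
    · rintro ⟨z, rfl⟩
      exact hrange.le ⟨_, rfl⟩
    · intro hx
      obtain ⟨z, hz⟩ := hrange.ge hx
      exact ⟨⟨z, show i z ∈ (f ⁻¹ᵁ U) from hz ▸ x.2⟩, Subtype.ext hz⟩
  · rw [morphismRestrict_app]
    have hb : Function.Bijective (Z.presheaf.map (eqToHom (image_morphismRestrict_preimage i (f ⁻¹ᵁ U) ⊤)).op).hom :=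
      (ConcreteCategory.isIso_iff_bijective _).1 inferInstance
    refine hb.2.comp ?_
    have e : (f ⁻¹ᵁ U).ι ''ᵁ (⊤ : Scheme.Opens _) = f ⁻¹ᵁ U := (f ⁻¹ᵁ U).ι.image_top_eq_opensRange.trans (Scheme.Opens.opensRange_ι _)
    have key : ∀ W : X.Opens, W = f ⁻¹ᵁ U → Function.Surjective (i.app W).hom := by
      rintro W rfl
      exact hsurj
    exact key _ e

end Groth.Agent.SerreCrit
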